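import Mathlib
import Cfsg.Agent.Helper62.D8.Defs

/-!
# S3333 (helper62): definitions

`G` finite, `S` a Sylow 3-subgroup of order 9 with `C_G(S) = S`, `N_G(S)/S ≅ D₈`, `C_G(u) ≤ N_G(S)` for
`u ∈ S#`.  Then `S ⊴ G` or `G ≅ S₆`.  `Cfg` is the configuration in the coordinates `NData8` of S3716.
-/

set_option autoImplicit false

namespace Cfsg.Agent.Helper62.S6

open Cfsg.Agent.Helper62.D8 (NData8)

universe u
variable {G : Type u} [Group G]

/-- The configuration of S3333 in coordinates. -/
structure Cfg (S : Subgroup G) (x y t f : G) : Prop where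
  syl : ∃ P : Sylow 3 G, S = (P : Subgroup G)
  card : Nat.card S = 9
  cent : Subgroup.centralizer (S : Set G) = S
  loc : ∀ u ∈ S, u ≠ 1 → Subgroup.centralizer ({u} : Set G) ≤ Subgroup.normalizer (S : Set G)
  nd : NData8 S x y t f

end Cfsg.Agent.Helper62.S6
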