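import Mathlib
import Cfsg.Agent.Helper62.S6.Defs
import Cfsg.Agent.Helper31.D8G3
import Cfsg.Agent.Helper49.D8G1a
import Cfsg.Agent.Helper49.D8G1b
import Cfsg.Agent.Helper66.S6R0b
import Cfsg.Agent.Helper49.S6R0a
import Cfsg.Agent.Helper65.S6R2a
import Cfsg.Agent.Helper65.S6R3
import Cfsg.Agent.Helper65.S6R4b
import Cfsg.Agent.Helper10.S6R1
import Cfsg.Agent.Helper10.S6R2b
import Cfsg.Agent.Helper10.S6R4c

/-!
# S3333 (helper62): assemblies `cfg_exists`, `le_of_normal_ne_bot`, `simple_normalClosure`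
from the pieces (R0a) helper49, (R0b) helper66, (R1) helper48, (R2a) helper37, (R2b) helper12,
(R4b) helper88, (R4c) helper10.
-/

set_option autoImplicit false
open Cfsg

namespace Cfsg.Agent.Helper62.S6

open Cfsg.Agent.Helper62.D8 (NData8)

universe u

section grp
variable {G : Type u} [Group G] [Finite G]

/-- (R0) coordinates. -/
theorem cfg_exists (P : Sylow 3 G) (S : Subgroup G) (hSP : S = P) (hcard : Nat.card S = 9)
    (hC : Subgroup.centralizer (S : Set G) = S)
    (eN : ↥(Subgroup.normalizer (S : Set G)) ⧸ S.subgroupOf (Subgroup.normalizer (S : Set G)) ≃*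
      DihedralGroup 4)
    (hcent : ∀ x ∈ S, x ≠ 1 →
      Subgroup.centralizer ({x} : Set G) ≤ Subgroup.normalizer (S : Set G)) :
    ∃ x y t f : G, Cfg S x y t f := by
  subst hSP
  have hMel := Cfsg.Agent.Helper66.S6.pow_three_of_quotient (P : Subgroup G) hcard hC eN
  have hS := fun T => Cfsg.Agent.Helper49.S6.sylow_two_iso (P : Subgroup G) hcard eN T
  have hcomm : ∀ s ∈ (P : Subgroup G), ∀ u ∈ (P : Subgroup G), s * u = u * s := by
    intro s hs u hu
    rw [← hC] at hs
    exact ((Subgroup.mem_centralizer_iff.mp hs) u hu).symm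
  obtain ⟨S₀, hS₀N, hiso, hprod, hfaith⟩ :=
    Cfsg.Agent.Helper49.D8.exists_complement8 P hcard hC _ rfl hS
  obtain ⟨x, y, t, f, hd⟩ := Cfsg.Agent.Helper49.D8.ndata8_of_complement (P : Subgroup G) hcard hMel
    hcomm S₀ hS₀N hiso hprod hfaith
  exact ⟨x, y, t, f, ⟨⟨P, rfl⟩, hcard, hC, hcent, hd⟩⟩

variable {S : Subgroup G} {x y t f : G}

omit [Finite G] in
/-- the symmetry exchanging the two classes -/
theorem Cfg.swap (h : Cfg S x y t f) : Cfg S (x * y) (x * y⁻¹) (f * t) f⁻¹ :=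
  ⟨h.syl, h.card, h.cent, h.loc, Cfsg.Agent.Helper31.D8.NData8.swap h.nd⟩

/-- (R2) every nontrivial normal subgroup of `G` contains `S`. -/
theorem le_of_normal_ne_bot (h : Cfg S x y t f) (K : Subgroup G) [hKn : K.Normal] (hK : K ≠ ⊥) :
    S ≤ K := by
  have hnorm : Subgroup.normalizer (K : Set G) = ⊤ := Subgroup.normalizer_eq_top_iff.mpr hKn
  have h3 : 3 ∣ Nat.card K := by
    by_contra h3
    exact hK (Cfsg.Agent.Helper10.S6.three_prime_eq_bot h K (by rw [hnorm]; exact le_top) h3)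
  obtain ⟨v, hvK, hvS, hv1⟩ := Cfsg.Agent.Helper65.S6.exists_mem_inf h ⊤ le_top K le_top (by rw [hnorm]) h3
  exact Cfsg.Agent.Helper10.S6.le_of_mem_of_conj_mem h K v hvS hv1 hvK (hKn.conj_mem v hvK f)

/-- (R4) the normal closure of `S` is simple. -/
theorem simple_normalClosure (h : Cfg S x y t f) (hn : ¬ S.Normal) :
    IsSimpleGroup ↥(Subgroup.normalClosure (S : Set G)) := by
  have hSL : S ≤ Subgroup.normalClosure (S : Set G) := Subgroup.le_normalClosure
  have : Nontrivial ↥(Subgroup.normalClosure (S : Set G)) := by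
    obtain ⟨v, hv, hv1⟩ : ∃ v ∈ S, v ≠ 1 := by
      by_contra hcon
      push Not at hcon
      have : S = ⊥ := by
        rw [eq_bot_iff]
        intro v hv
        exact Subgroup.mem_bot.mpr (hcon v hv)
      have hc := h.card
      rw [this, Subgroup.card_bot] at hc
      omega
    exact ⟨⟨⟨v, hSL hv⟩, 1, fun hc => hv1 (congrArg Subtype.val hc)⟩⟩
  refine ⟨fun K hKn => ?_⟩
  by_cases hKb : K = ⊥
  · exact Or.inl hKb
  right
  set K' : Subgroup G := K.map (Subgroup.normalClosure (S : Set G)).subtype with hK'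
  have hK'L : K' ≤ Subgroup.normalClosure (S : Set G) := by
    rintro _ ⟨k, -, rfl⟩
    exact k.2
  have hLK' : Subgroup.normalClosure (S : Set G) ≤ Subgroup.normalizer (K' : Set G) := by
    intro l hl
    rw [Subgroup.mem_normalizer_iff]
    intro g
    constructor
    · rintro ⟨k, hk, rfl⟩
      exact ⟨⟨l, hl⟩ * k * ⟨l, hl⟩⁻¹, hKn.conj_mem k hk ⟨l, hl⟩, rfl⟩
    · rintro ⟨k, hk, hkg⟩
      refine ⟨⟨l, hl⟩⁻¹ * k * ⟨l, hl⟩, ?_, ?_⟩
      · have := hKn.conj_mem k hk ⟨l, hl⟩⁻¹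
        simpa using this
      · have : ((Subgroup.normalClosure (S : Set G)).subtype k : G) = l * g * l⁻¹ := hkg
        simp only [map_mul, map_inv, Subgroup.subtype_apply] at this ⊢
        rw [this]; group
  have hK'b : K' ≠ ⊥ := by
    intro hc
    apply hKb
    rw [eq_bot_iff]
    intro k hk
    have : (k : G) ∈ K' := ⟨k, hk, rfl⟩
    rw [hc, Subgroup.mem_bot] at this
    exact Subgroup.mem_bot.mpr (Subtype.ext this)
  have h3 : 3 ∣ Nat.card K' := by
    by_contra h3
    exact hK'b (Cfsg.Agent.Helper10.S6.three_prime_eq_bot h K' (hSL.trans hLK') h3)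
  obtain ⟨v, hvK, hvS, hv1⟩ := Cfsg.Agent.Helper65.S6.exists_mem_inf h _ hSL K' hK'L hLK' h3
  by_cases hSK : S ≤ K'
  · have hL := Cfsg.Agent.Helper65.S6.normalClosure_le_of_normalizes h K' hLK' hSK
    rw [eq_top_iff]
    intro l _
    obtain ⟨k, hk, hkl⟩ := hL l.2
    have : k = l := Subtype.ext hkl
    rwa [← this]
  · exact absurd (Cfsg.Agent.Helper10.S6.normal_of_inf_order_three h K' hK'L hLK' v hvK hvS hv1 hSK) hn

end grp

end Cfsg.Agent.Helper62.S6
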