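import Mathlib
import Cfsg.Agent.Helper62.S6.Defs
import Cfsg.Agent.Helper47.D8Coords
import Cfsg.Agent.Helper65.S6R3
import Cfsg.Agent.Helper65.S6R5

/-!
# S3333 (helper62), piece (C4b-P): `G` preserves the class of 3-cycles of `L ≅ A₆`

`L = ⟨S^G⟩ ≅ A₆`, `f ∈ L`.  By Frattini `G = L N_G(S)`; every element of order 3 of `L` is `L`-conjugate
into `S` (Sylow in `L`), and on `S` the group `N_G(S) = S⟨f, t⟩` has the same orbits as `⟨f⟩ ≤ L`.  Hence
`G`-conjugate elements of order 3 of `L` are `L`-conjugate.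
-/

set_option autoImplicit false
open Cfsg

namespace Cfsg.Agent.Helper62.S6

open Cfsg.Agent.Helper62.D8 Cfsg.Agent.Helper47.D8
open scoped Pointwise

universe u

/-- orbits of `⟨f, t⟩` on exponent pairs are orbits of `⟨f⟩` -/
theorem C4bP_orbit : ∀ i : Fin 4, ∀ j : Fin 2, ∀ a b : Fin 3, ∃ k : Fin 4,
    (actE i j (a, b)).1 % 3 = (actE k 0 (a, b)).1 % 3 ∧
    (actE i j (a, b)).2 % 3 = (actE k 0 (a, b)).2 % 3 := by
  decide

section grp
variable {G : Type u} [Group G]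
variable {S : Subgroup G} {x y t f : G}

/-- (E) on `S`, conjugation by `n ∈ N_G(S)` agrees with conjugation by a power of `f`. -/
theorem C4bP_norm_orbit (hd : NData8 S x y t f) (n : G)
    (hn : n ∈ Subgroup.normalizer (S : Set G)) (u : G) (hu : u ∈ S) :
    ∃ k : ℕ, n * u * n⁻¹ = f ^ k * u * (f ^ k)⁻¹ := by
  obtain ⟨s, hs, i, j, hi, hj, rfl⟩ := hd.memN n hn
  obtain ⟨a, b, rfl⟩ := hd.memT u hu
  have hred : x ^ a * y ^ b = x ^ (a % 3) * y ^ (b % 3) := by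
    rw [pow_mul_pow_eq_iff8 hd]
    exact ⟨(Nat.mod_mod _ _).symm, (Nat.mod_mod _ _).symm⟩
  obtain ⟨k, hk1, hk2⟩ := C4bP_orbit ⟨i, hi⟩ ⟨j, hj⟩ ⟨a % 3, Nat.mod_lt _ (by norm_num)⟩
    ⟨b % 3, Nat.mod_lt _ (by norm_num)⟩
  refine ⟨k.val, ?_⟩
  rw [hred]
  have h1 := sw_act8 hd hs i j (a % 3, b % 3)
  have h2 := w_act8 hd k.val 0 (a % 3, b % 3)
  rw [pow_zero, mul_one] at h2
  rw [h1, h2, pow_mul_pow_eq_iff8 hd]
  exact ⟨hk1, hk2⟩

end grp

section fin
variable {G : Type u} [Group G] [Finite G]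
variable {S : Subgroup G} {x y t f : G}

/-- an element of order 3 of `L ≥ S` is `L`-conjugate into `S` -/
theorem C4bP_into_S (h : Cfg S x y t f) (L : Subgroup G) (hSL : S ≤ L) (c : ↥L)
    (hc : c ^ 3 = 1) : ∃ l : ↥L, (l : G) * (c : G) * (l : G)⁻¹ ∈ S := by
  have : Fact (Nat.Prime 3) := ⟨Nat.prime_three⟩
  obtain ⟨PL, hPL, -⟩ := Cfsg.Agent.Helper65.S6.transfer h L hSL
  have hp : IsPGroup 3 (Subgroup.zpowers c) := by
    intro z
    obtain ⟨z, hz⟩ := z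
    obtain ⟨m, rfl⟩ := Subgroup.mem_zpowers_iff.mp hz
    refine ⟨1, Subtype.ext ?_⟩
    simp only [pow_one, Subgroup.coe_pow, Subgroup.coe_one]
    rw [← zpow_natCast, ← zpow_mul, mul_comm, zpow_mul, zpow_natCast, hc, one_zpow]
  obtain ⟨Q, hQ⟩ := hp.exists_le_sylow
  obtain ⟨l, hl⟩ := MulAction.exists_smul_eq (↥L) Q PL
  refine ⟨l, ?_⟩
  have hcQ : c ∈ (Q : Subgroup ↥L) := hQ (Subgroup.mem_zpowers c)
  have h1 : MulAut.conj l • c ∈ MulAut.conj l • (Q : Subgroup ↥L) :=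
    Subgroup.smul_mem_pointwise_smul c (MulAut.conj l) (Q : Subgroup ↥L) hcQ
  have h2 : MulAut.conj l • (Q : Subgroup ↥L) = (PL : Subgroup ↥L) := by
    rw [← hl]; rfl
  rw [h2, hPL, Subgroup.mem_subgroupOf] at h1
  simpa using h1

/-- (C4b-P) `G` preserves the class of 3-cycles of `L ≅ A₆`. -/
theorem conj_threeCycle (h : Cfg S x y t f)
    (hf : f ∈ Subgroup.normalClosure (S : Set G))
    (e : ↥(Subgroup.normalClosure (S : Set G)) ≃* alternatingGroup (Fin 6)) (g : G)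
    (c c' : ↥(Subgroup.normalClosure (S : Set G))) (hcc' : (c' : G) = g * (c : G) * g⁻¹)
    (hc : ((e c : alternatingGroup (Fin 6)) : Equiv.Perm (Fin 6)).IsThreeCycle) :
    ((e c' : alternatingGroup (Fin 6)) : Equiv.Perm (Fin 6)).IsThreeCycle := by
  have hLn : (Subgroup.normalClosure (S : Set G)).Normal := Subgroup.normalClosure_normal
  have hSL : S ≤ Subgroup.normalClosure (S : Set G) := Subgroup.le_normalClosure
  -- `c` has order 3
  have hc3 : c ^ 3 = 1 := by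
    apply e.injective
    apply Subtype.ext
    rw [map_pow, map_one, Subgroup.coe_pow, Subgroup.coe_one, ← hc.orderOf, pow_orderOf_eq_one]
  obtain ⟨l, hl⟩ := C4bP_into_S h _ hSL c hc3
  obtain ⟨k, hk, n, hnN, rfl⟩ := Cfsg.Agent.Helper65.S6.frattini8 h
    (Subgroup.normalClosure (S : Set G)) hSL g
  obtain ⟨j, hj⟩ := C4bP_norm_orbit h.nd n hnN _ hl
  -- the conjugating element of `L`
  have hnl : n * (l : G)⁻¹ * n⁻¹ ∈ Subgroup.normalClosure (S : Set G) :=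
    hLn.conj_mem _ (inv_mem l.2) n
  let q : ↥(Subgroup.normalClosure (S : Set G)) :=
    ⟨k, hk⟩ * ⟨n * (l : G)⁻¹ * n⁻¹, hnl⟩ * ⟨f, hf⟩ ^ j * l
  have hq : c' = q * c * q⁻¹ := by
    apply Subtype.ext
    rw [hcc']
    simp only [q, Subgroup.coe_mul, Subgroup.coe_inv, Subgroup.coe_pow]
    have e1 : k * n * (c : G) * (k * n)⁻¹ =
        k * (n * (l : G)⁻¹ * n⁻¹) * (n * ((l : G) * (c : G) * (l : G)⁻¹) * n⁻¹) *
          (k * (n * (l : G)⁻¹ * n⁻¹))⁻¹ := by group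
    rw [e1, hj]
    group
  rw [hq, map_mul, map_mul, map_inv]
  simp only [Subgroup.coe_mul, Subgroup.coe_inv]
  rw [Equiv.Perm.IsThreeCycle, Equiv.Perm.cycleType_conj]
  exact hc

end fin

end Cfsg.Agent.Helper62.S6
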