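import Mathlib
import Cfsg.Agent.Helper62.S6.Defs
import Cfsg.Agent.Helper62.S6.Lemmas
import Cfsg.Agent.Helper62.D8.Perfect
import Cfsg.Agent.Helper47.D8G7

/-!
# S3333 (helper62): (C8) `f, t ∈ L`: then `L = G` is perfect of order `> 72` and S3716 applies
(hedge copy; helper72 has the same piece).
-/

set_option autoImplicit false
open Cfsg
open scoped commutatorElement

namespace Cfsg.Agent.Helper62.S6

universe u

section grp
variable {G : Type u} [Group G] [Finite G]
variable {S : Subgroup G} {x y t f : G}

theorem case_D8 (h : Cfg S x y t f) (hn : ¬ S.Normal)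
    (hf : f ∈ Subgroup.normalClosure (S : Set G)) (ht : t ∈ Subgroup.normalClosure (S : Set G)) :
    False := by
  have hSL : S ≤ Subgroup.normalClosure (S : Set G) := Subgroup.le_normalClosure
  -- `N ≤ L`
  have hNL : Subgroup.normalizer (S : Set G) ≤ Subgroup.normalClosure (S : Set G) := by
    intro n hnN
    obtain ⟨s, hs, i, j, -, -, rfl⟩ := h.nd.memN n hnN
    exact Subgroup.mul_mem _ (hSL hs)
      (Subgroup.mul_mem _ (Subgroup.pow_mem _ hf i) (Subgroup.pow_mem _ ht j))
  -- `L = ⊤`
  have hLtop : Subgroup.normalClosure (S : Set G) = ⊤ := by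
    rw [eq_top_iff]
    intro g _
    obtain ⟨k, hk, n, hnN, rfl⟩ :=
      Cfsg.Agent.Helper65.S6.frattini8 h (Subgroup.normalClosure (S : Set G)) hSL g
    exact Subgroup.mul_mem _ hk (hNL hnN)
  -- `G` is perfect
  have hperf : commutator G = ⊤ := by
    by_cases hc : commutator G = ⊥
    · exfalso
      apply hn
      refine ⟨fun s hs g => ?_⟩
      have hcomm : g * s = s * g := by
        have hmem : ⁅g, s⁆ ∈ commutator G := by
          rw [commutator_def]
          exact Subgroup.commutator_mem_commutator (Subgroup.mem_top g) (Subgroup.mem_top s)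
        rw [hc, Subgroup.mem_bot, commutatorElement_eq_one_iff_mul_comm] at hmem
        exact hmem
      rw [hcomm, mul_inv_cancel_right]
      exact hs
    · have h1 : S ≤ commutator G := le_of_normal_ne_bot h (commutator G) hc
      have h2 : Subgroup.normalClosure (S : Set G) ≤ commutator G :=
        Subgroup.normalClosure_le_normal h1
      rw [hLtop] at h2
      exact top_le_iff.mp h2
  obtain ⟨P, rfl⟩ := h.syl
  -- `|G| > 72`
  obtain ⟨hN72, n, hcard, hn9⟩ := Cfsg.Agent.Helper47.D8.card_eq8 P x y t f h.nd h.card h.loc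
  have hbig : 72 < Nat.card G := by
    by_contra hle
    have hn1 : n = 1 := by
      rcases Nat.eq_zero_or_pos n with h0 | h0
      · rw [h0] at hn9; omega
      · rw [hcard] at hle
        omega
    rw [hn1, mul_one] at hcard
    have htop : Subgroup.normalizer ((P : Subgroup G) : Set G) = ⊤ :=
      Subgroup.eq_top_of_card_eq _ (by rw [hN72, hcard])
    exact hn (Subgroup.normalizer_eq_top_iff.mp htop)
  exact Cfsg.Agent.Helper62.D8.false_of_ndata8_perfect P x y t f h.nd h.card h.loc hperf hbig

end grp

end Cfsg.Agent.Helper62.S6
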