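import Mathlib
import Cfsg.Agent.Helper62.S6.Defs
import Cfsg.Agent.Helper62.S6.Lemmas
import Cfsg.Agent.Helper62.S6.C4bP
import Cfsg.Agent.Helper65.S6R5
import Cfsg.Agent.Helper65.S6C1
import Cfsg.Agent.Helper63.S6C2
import Cfsg.Agent.Helper67.S6C4a
import Cfsg.Agent.Helper20.S6C4bH
import Cfsg.Agent.Helper50.S6CV
import Cfsg.Agent.Helper62.S6.C8

/-!
# S3333 (helper62): the main theorem, from the case pieces
(C8) helper62 (also helper72), (C4a) helper67, (C4b) helper20 + helper41 + helper62, (CV) helper50,
(C2) helper63, (C1) helper65; reductions (R*) helper10, helper24, helper37, helper49, helper55, helper65,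
helper66; plan helper2.
-/

set_option autoImplicit false
open Cfsg

namespace Cfsg.Agent.Helper62.S6

universe u

section grp
variable {G : Type u} [Group G] [Finite G]

theorem main (P : Sylow 3 G) (S : Subgroup G) (hSP : S = P) (hcard : Nat.card S = 9)
    (hC : Subgroup.centralizer (S : Set G) = S)
    (eN : ↥(Subgroup.normalizer (S : Set G)) ⧸ S.subgroupOf (Subgroup.normalizer (S : Set G)) ≃*
      DihedralGroup 4)
    (hcent : ∀ x ∈ S, x ≠ 1 →
      Subgroup.centralizer ({x} : Set G) ≤ Subgroup.normalizer (S : Set G)) :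
    S.Normal ∨ Nonempty (G ≃* Equiv.Perm (Fin 6)) := by
  obtain ⟨x, y, t, f, h⟩ := cfg_exists P S hSP hcard hC eN hcent
  by_cases hn : S.Normal
  · exact Or.inl hn
  right
  by_cases hf : f ∈ Subgroup.normalClosure (S : Set G)
  · by_cases ht : t ∈ Subgroup.normalClosure (S : Set G)
    · exact (case_D8 h hn hf ht).elim
    · obtain ⟨e⟩ := Cfsg.Agent.Helper67.S6.case_C4_iso_core h hf ht (simple_normalClosure h hn)
        (Cfsg.Agent.Helper65.S6.transfer h _ Subgroup.le_normalClosure)
      exact Cfsg.Agent.Helper20.S6.case_C4_sym_core h ht e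
        (fun g c c' hcc' hc => conj_threeCycle h hf e g c c' hcc' hc)
        (fun K _ hK => le_of_normal_ne_bot h K hK)
  · by_cases ht : t ∈ Subgroup.normalClosure (S : Set G)
    · exact (Cfsg.Agent.Helper50.S6.case_V4 h hn hf ht).elim
    · by_cases hft : f * t ∈ Subgroup.normalClosure (S : Set G)
      · have hf' : f⁻¹ ∉ Subgroup.normalClosure (S : Set G) := fun hc =>
          hf (by simpa using (Subgroup.normalClosure (S : Set G)).inv_mem hc)
        exact (Cfsg.Agent.Helper50.S6.case_V4 h.swap hn hf' hft).elim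
      · by_cases hz : f ^ 2 ∈ Subgroup.normalClosure (S : Set G)
        · exact (Cfsg.Agent.Helper63.S6.case_Z2_core h (simple_normalClosure h hn) hf ht hft hz).elim
        · exact (Cfsg.Agent.Helper65.S6.case_one_core h (simple_normalClosure h hn) hf ht hft hz).elim

end grp

end Cfsg.Agent.Helper62.S6
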