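import Mathlib
import Cfsg.Agent.Helper21.A6Main

/-!
# S3333 (helper62): (RZ) `N_H(P) = P : 2` is impossible in a simple group with helper21's hypotheses
-/

set_option autoImplicit false
open Cfsg

namespace Cfsg.Agent.Helper62.S6

universe u
variable {H : Type u} [Group H] [Finite H]

/-- (RZ) `N_H(P) = P : 2` is impossible (helper21's `card_eq_360` + Sylow counting). -/
theorem z2_false [IsSimpleGroup H] (P : Sylow 3 H)
    (hT : Cfsg.Agent.Helper21.A6.Hyp (P : Subgroup H))
    (hcl : ∃ a b : H, orderOf a = 3 ∧ orderOf b = 3 ∧ ∀ g : H, g * a * g⁻¹ ≠ b)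
    (hN : Nat.card (Subgroup.normalizer ((P : Subgroup H) : Set H)) = 18) : False := by
  have : Fact (Nat.Prime 3) := ⟨Nat.prime_three⟩
  have h360 := Cfsg.Agent.Helper21.A6.card_eq_360 P hT hcl
  have h1 : Nat.card (Sylow 3 H) ≡ 1 [MOD 3] := card_sylow_modEq_one 3 H
  have h2 : Nat.card (Sylow 3 H) =
      (Subgroup.normalizer ((P : Subgroup H) : Set H)).index := Sylow.card_eq_index_normalizer P
  have h3 := Subgroup.card_mul_index (Subgroup.normalizer ((P : Subgroup H) : Set H))
  rw [hN, h360] at h3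
  have h4 : (Subgroup.normalizer ((P : Subgroup H) : Set H)).index = 20 := by omega
  rw [h2, h4] at h1
  exact absurd h1 (by decide)

end Cfsg.Agent.Helper62.S6
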